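import Mathlib

/-!
# Hua's identity and finite alternative division rings
-/

set_option autoImplicit false
set_option linter.unusedSectionVars false

namespace Cfsg.Agent.Ito.AZ

/-- Closure under inverses and `aba`. -/
theorem hua {R : Type*} [Ring R] (J : AddSubgroup R) (h1 : (1 : R) ∈ J)
    (hu : ∀ a ∈ J, a ≠ 0 → IsUnit a)
    (hinv : ∀ u w : Rˣ, (u : R) ∈ J → (w : R) ∈ J → ((↑u⁻¹ : R) + ↑w⁻¹ = 0 ∨
      ∃ t : Rˣ, (t : R) ∈ J ∧ (↑u⁻¹ : R) + ↑w⁻¹ = ↑t⁻¹)) :
    (∀ u : Rˣ, (u : R) ∈ J → (↑u⁻¹ : R) ∈ J) ∧ ∀ a ∈ J, ∀ b ∈ J, a * b * a ∈ J := by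
  have key : ∀ u w : Rˣ, (u : R) ∈ J → (w : R) ∈ J → (u : R) * ↑w⁻¹ * u ∈ J := by
    intro u w hu' hw
    by_cases huw : (w : R) = u
    · have : w = u := Units.ext huw
      subst this
      simpa using hw
    · have ht : (w : R) - u ∈ J := sub_mem hw hu'
      obtain ⟨τ, hτ⟩ := hu _ ht (sub_ne_zero.mpr huw)
      have e1 : (↑u⁻¹ : R) + ↑τ⁻¹ = ((u⁻¹ * w * τ⁻¹ : Rˣ) : R) := by
        have e2 : (w : R) = τ + u := by rw [hτ]; abel
        push_cast
        rw [e2, mul_add, add_mul]
        simp [add_comm]
      rcases hinv u τ hu' (by rw [hτ]; exact ht) with h | ⟨s, hs, h⟩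
      · rw [e1] at h
        have h2 : (1 : R) = 0 := by
          have := congrArg (fun r : R => r * (((u⁻¹ * w * τ⁻¹)⁻¹ : Rˣ) : R)) h
          simpa only [Units.mul_inv, zero_mul] using this
        have h3 : (u : R) * ↑w⁻¹ * u = 0 := by
          rw [← one_mul ((u : R) * ↑w⁻¹ * u), h2, zero_mul]
        rw [h3]
        exact zero_mem J
      · rw [e1] at h
        have h2 : u⁻¹ * w * τ⁻¹ = s⁻¹ := Units.ext h
        have h3 : s = τ * w⁻¹ * u := by
          rw [← inv_inj, ← h2]; group
        have h4 : (s : R) = u - u * ↑w⁻¹ * u := by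
          rw [h3]
          push_cast
          rw [hτ, sub_mul, sub_mul]
          simp
        have h5 : (u : R) * ↑w⁻¹ * u = u - s := by rw [h4]; abel
        rw [h5]
        exact sub_mem hu' hs
  have hinvJ : ∀ u : Rˣ, (u : R) ∈ J → (↑u⁻¹ : R) ∈ J := by
    intro u hu'
    have := key 1 u (by simpa using h1) hu'
    simpa using this
  refine ⟨hinvJ, fun a ha b hb => ?_⟩
  by_cases ha0 : a = 0
  · rw [ha0]; simp [zero_mem]
  by_cases hb0 : b = 0
  · rw [hb0]; simp [zero_mem]
  obtain ⟨u, rfl⟩ := hu a ha ha0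
  obtain ⟨w, rfl⟩ := hu b hb hb0
  have := key u w⁻¹ ha (hinvJ w hb)
  simpa using this

section Alt

variable {S : Type*} [NonAssocRing S]

/-- associator -/
def as (x y z : S) : S := (x * y) * z - x * (y * z)

theorem as_add₁ (x x' y z : S) : as (x + x') y z = as x y z + as x' y z := by
  simp only [as, add_mul]; abel

theorem as_add₂ (x y y' z : S) : as x (y + y') z = as x y z + as x y' z := by
  simp only [as, add_mul, mul_add]; abel

theorem as_add₃ (x y z z' : S) : as x y (z + z') = as x y z + as x y z' := by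
  simp only [as, mul_add]; abel

/-- left powers -/
def pw (x : S) (n : ℕ) : S := (fun s => x * s)^[n] 1

theorem pw_zero (x : S) : pw x 0 = 1 := rfl

theorem pw_one (x : S) : pw x 1 = x := by simp [pw]

theorem pw_succ (x : S) (n : ℕ) : pw x (n + 1) = x * pw x n := by
  simp only [pw, Function.iterate_succ_apply']

/-- The hypotheses: left and right Moufang identities. -/
structure Mf (S : Type*) [NonAssocRing S] : Prop where
  hl : ∀ x y w : S, x * (y * (x * w)) = (x * (y * x)) * w
  hr : ∀ x y w : S, ((w * x) * y) * x = w * ((x * y) * x)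

namespace Mf

variable (H : Mf S)
include H

theorem la (x w : S) : x * (x * w) = (x * x) * w := by
  have := H.hl x 1 w
  simpa using this

theorem ra (x w : S) : (w * x) * x = w * (x * x) := by
  have := H.hr x 1 w
  simpa using this

theorem as_left (x z : S) : as x x z = 0 := by
  simp only [as, H.la, sub_self]

theorem as_right (x y : S) : as x y y = 0 := by
  simp only [as, H.ra, sub_self]

theorem as_swap (x y z : S) : as x y z = - as y x z := by
  have h := H.as_left (x + y) z
  rw [as_add₁, as_add₂, as_add₂, H.as_left, H.as_left] at h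
  simp only [zero_add, add_zero] at h
  exact eq_neg_of_add_eq_zero_left h

theorem as_swap' (x y z : S) : as x y z = - as x z y := by
  have h := H.as_right x (y + z)
  rw [as_add₂, as_add₃, as_add₃, H.as_right, H.as_right] at h
  simp only [zero_add, add_zero] at h
  exact eq_neg_of_add_eq_zero_left h

theorem pw_mul (x : S) (n : ℕ) : ∀ w, pw x n * w = (fun s => x * s)^[n] w := by
  induction n using Nat.twoStepInduction with
  | zero => intro w; simp [pw_zero]
  | one => intro w; simp [pw_one]
  | more n ih _ =>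
    intro w
    have h1 : pw x n * x = pw x (n + 1) := by
      rw [ih, pw, Function.iterate_succ_apply, mul_one]
    have h2 := H.hl x (pw x n) w
    rw [h1, ← pw_succ, ih] at h2
    rw [← h2]
    rw [Function.iterate_succ_apply', Function.iterate_succ_apply]

theorem pw_mul_self (x : S) (n : ℕ) : pw x n * x = pw x (n + 1) := by
  rw [H.pw_mul, pw, Function.iterate_succ_apply, mul_one]

theorem pw_right (x : S) (n : ℕ) : pw x n = (fun s => s * x)^[n] 1 := by
  induction n with
  | zero => rfl
  | succ n ih =>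
    rw [Function.iterate_succ_apply', ← ih, H.pw_mul_self]

theorem mul_pw (x : S) (n : ℕ) : ∀ w, w * pw x n = (fun s => s * x)^[n] w := by
  induction n using Nat.twoStepInduction with
  | zero => intro w; simp [pw_zero]
  | one => intro w; simp [pw_one]
  | more n ih _ =>
    intro w
    have h2 := H.hr x (pw x n) w
    rw [← pw_succ, H.pw_mul_self, ih] at h2
    rw [← h2]
    rw [Function.iterate_succ_apply', Function.iterate_succ_apply]

theorem pw_add (x : S) (m n : ℕ) : pw x m * pw x n = pw x (m + n) := by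
  rw [H.pw_mul, pw, pw, Function.iterate_add_apply]

theorem pw_assoc_left (x : S) (m n : ℕ) (w : S) :
    (pw x m * pw x n) * w = pw x m * (pw x n * w) := by
  rw [H.pw_add, H.pw_mul, H.pw_mul, H.pw_mul, Function.iterate_add_apply]

theorem pw_assoc_right (x : S) (m n : ℕ) (w : S) :
    w * (pw x m * pw x n) = (w * pw x m) * pw x n := by
  rw [H.pw_add, H.mul_pw, H.mul_pw, H.mul_pw, add_comm, Function.iterate_add_apply]

omit H in
/-- Subfields acting associatively on both sides. -/
structure Good (M : AddSubgroup S) : Prop where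
  one : (1 : S) ∈ M
  mul : ∀ k ∈ M, ∀ l ∈ M, k * l ∈ M
  comm : ∀ k ∈ M, ∀ l ∈ M, k * l = l * k
  la : ∀ k ∈ M, ∀ l ∈ M, ∀ w, (k * l) * w = k * (l * w)
  ra : ∀ k ∈ M, ∀ l ∈ M, ∀ w, w * (k * l) = (w * k) * l

theorem good_closure (x : S) : Good (AddSubgroup.closure (Set.range (pw x))) := by
  have step : ∀ (p : S → S → Prop), (∀ m n, p (pw x m) (pw x n)) →
      (∀ k, p 0 k) → (∀ k, p k 0) →
      (∀ a b c, p a c → p b c → p (a + b) c) → (∀ a b c, p a b → p a c → p a (b + c)) →
      (∀ a b, p a b → p (-a) b) → (∀ a b, p a b → p a (-b)) →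
      ∀ k ∈ AddSubgroup.closure (Set.range (pw x)), ∀ l ∈ AddSubgroup.closure (Set.range (pw x)),
        p k l := by
    intro p h1 h2 h3 h4 h5 h6 h7 k hk l hl
    induction hk using AddSubgroup.closure_induction with
    | mem y hy =>
      obtain ⟨m, rfl⟩ := hy
      induction hl using AddSubgroup.closure_induction with
      | mem y hy =>
        obtain ⟨n, rfl⟩ := hy
        exact h1 m n
      | zero => exact h3 _
      | add a b _ _ ha hb => exact h5 _ _ _ ha hb
      | neg a _ ha => exact h7 _ _ ha
    | zero => exact h2 _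
    | add a b _ _ ha hb => exact h4 _ _ _ ha hb
    | neg a _ ha => exact h6 _ _ ha
  refine ⟨AddSubgroup.subset_closure ⟨0, rfl⟩, ?_, ?_, ?_, ?_⟩
  · apply step
    · intro m n
      rw [H.pw_add]
      exact AddSubgroup.subset_closure ⟨_, rfl⟩
    · intro k; rw [zero_mul]; exact zero_mem _
    · intro k; rw [mul_zero]; exact zero_mem _
    · intro a b c ha hb; rw [add_mul]; exact add_mem ha hb
    · intro a b c ha hb; rw [mul_add]; exact add_mem ha hb
    · intro a b ha; rw [neg_mul]; exact neg_mem ha
    · intro a b ha; rw [mul_neg]; exact neg_mem ha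
  · apply step
    · intro m n
      rw [H.pw_add, H.pw_add, add_comm]
    · intro k; rw [zero_mul, mul_zero]
    · intro k; rw [zero_mul, mul_zero]
    · intro a b c ha hb; rw [add_mul, mul_add, ha, hb]
    · intro a b c ha hb; rw [add_mul, mul_add, ha, hb]
    · intro a b ha; rw [neg_mul, mul_neg, ha]
    · intro a b ha; rw [neg_mul, mul_neg, ha]
  · apply step (fun k l => ∀ w, (k * l) * w = k * (l * w))
    · intro m n w; exact H.pw_assoc_left x m n w
    · intro k w; simp
    · intro k w; simp
    · intro a b c ha hb w; rw [add_mul, add_mul, add_mul, ha, hb]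
    · intro a b c ha hb w; rw [mul_add, add_mul, add_mul, mul_add, ha, hb]
    · intro a b ha w; rw [neg_mul, neg_mul, neg_mul, ha]
    · intro a b ha w; rw [mul_neg, neg_mul, neg_mul, mul_neg, ha]
  · apply step (fun k l => ∀ w, w * (k * l) = (w * k) * l)
    · intro m n w; exact H.pw_assoc_right x m n w
    · intro k w; simp
    · intro k w; simp
    · intro a b c ha hb w; rw [add_mul, mul_add, mul_add, add_mul, ha, hb]
    · intro a b c ha hb w; rw [mul_add, mul_add, mul_add, ha, hb]
    · intro a b ha w; rw [neg_mul, mul_neg, mul_neg, neg_mul, ha]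
    · intro a b ha w; rw [mul_neg, mul_neg, mul_neg, ha]

/-- `(k, s, l) = 0` for `k, l` in a good subfield. -/
theorem good_mid {M : AddSubgroup S} (hM : Good M) {k l : S} (hk : k ∈ M) (hl : l ∈ M) (s : S) :
    (k * s) * l = k * (s * l) := by
  have h := H.as_swap' k s l
  have h2 : as k l s = 0 := by
    simp only [as, hM.la k hk l hl, sub_self]
  rw [h2, neg_zero] at h
  exact sub_eq_zero.mp h

end Mf

end Alt

end Cfsg.Agent.Ito.AZ
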